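import Cfsg.Agent.PS2.TiW

/-! Groups of the order of `PSL₂(p²)` (notes/PS2.md, section Ti1). -/

set_option autoImplicit false
set_option linter.unusedSectionVars false

namespace Cfsg.Agent.PS2

open Subgroup Cfsg.Agent.H49

variable {G : Type*} [Group G] [Finite G] {p : ℕ} [Fact p.Prime] {m : ℕ} {S : Subgroup G}

namespace Ti1

theorem rel (H K : Subgroup G) : H.relIndex K * Nat.card ↥(H ⊓ K) = Nat.card K := by
  rw [← inf_relIndex_right, relIndex, mul_comm,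
    ← Nat.card_congr (subgroupOfEquivOfLe (inf_le_right : H ⊓ K ≤ K)).toEquiv, card_mul_index]

/-- a subgroup of order dividing two with a nontrivial element -/
theorem two {E : Subgroup G} (h : Nat.card E ∣ 2) {g : G} (hg : g ∈ E) (g1 : g ≠ 1) :
    Nat.card E = 2 ∧ ∀ e ∈ E, e = 1 ∨ e = g := by
  have h2 : Nat.card E = 2 := by
    rcases (Nat.dvd_prime Nat.prime_two).1 h with e | e
    · exact (g1 (mem_bot.1 (card_eq_one.1 e ▸ hg))).elim
    · exact e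
  refine ⟨h2, fun e he => ?_⟩
  obtain ⟨y, -, hy⟩ := (Nat.card_eq_two_iff' (1 : E)).1 h2
  by_cases e1 : e = 1
  · exact .inl e1
  · exact .inr (congrArg Subtype.val ((hy ⟨e, he⟩ fun a => e1 (congrArg Subtype.val a)).trans
      (hy ⟨g, hg⟩ fun a => g1 (congrArg Subtype.val a)).symm))

theorem stN {P Q : Sylow p G} {g : G} (hg : g ∈ St P Q) : g ∈ 𝒩((P : Subgroup G)) :=
  Sylow.smul_eq_iff_mem_normalizer.1 hg.1

theorem nm {P Q : Sylow p G} {g t : G} (ht : t ∈ St P Q) (c : t ∈ 𝒞[g]) : t ∈ 𝒩((P : Subgroup G) ⊓ 𝒞[g]) :=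
  norm_inf (A := zpowers t) (zpowers_le.2 (stN ht)) (norm_of_le (zpowers_le.2 c)) (mem_zpowers t)

end Ti1

open Ti1

namespace Core

variable (h : Core p G S m) (ht : TI p G) {P Q : Sylow p G} (hQ : P ≠ Q) {g : G} (hg : g ∈ St P Q)
  (g1 : g ≠ 1) (hX : Nat.card ↥((P : Subgroup G) ⊓ 𝒞[g]) = p)
include h ht hQ hg g1 hX

theorem ti1 (h1 : p % 4 = 1) : False := by
  have h5 := h.h5
  rcases h.num ht hQ hg g1 hX with ⟨hd, hn⟩ | ⟨hM, -⟩
  swap
  · have := hM.eight h5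
    omega
  -- the kernel `E = {1, g}`
  have r1 := rel 𝒞((P : Subgroup G) ⊓ 𝒞[g]) (St P Q ⊓ 𝒞[g])
  have d1 := h.h1_dvd ht hQ hg g1 hX
  have gE : g ∈ 𝒞((P : Subgroup G) ⊓ 𝒞[g]) ⊓ (St P Q ⊓ 𝒞[g]) :=
    ⟨fun u hu => mem_cent1.1 hu.2, hg, self_mem_cent1 g⟩
  rw [← r1, ← hd, mul_comm 2] at d1
  obtain ⟨E2, hE⟩ := two (Nat.dvd_of_mul_dvd_mul_left (by omega) d1) gE g1
  have gg : g * g = 1 := (hE _ (mul_mem gE gE)).resolve_right fun e => g1 (mul_eq_left.1 e)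
  rw [E2, mul_comm, hd] at r1
  -- the index of `H1` in the stabiliser is odd
  have odd : ¬ 2 ∣ (St P Q ⊓ 𝒞[g]).relIndex (St P Q) := by
    intro a2
    have r2 := rel (St P Q ⊓ 𝒞[g]) (St P Q)
    rw [inf_eq_left.2 inf_le_left, ← r1] at r2
    have d2 := (h.card_St ht hQ).2.1
    rw [← r2, (sq_mod h5).2.2.2, ← mul_assoc, mul_comm (p - 1)] at d2
    obtain ⟨a, ha⟩ := a2
    have d3 := Nat.dvd_of_mul_dvd_mul_right (by omega) d2
    rw [ha, ← mul_assoc] at d3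
    have := (Dvd.intro _ rfl : 2 * 2 ∣ 2 * 2 * a).trans d3
    omega
  apply odd
  -- a second involution
  obtain ⟨t0, c0, n0, e0⟩ := h.zstar (orderOf_eq_prime (p := 2) (by rw [pow_two, gg]) g1)
  obtain ⟨w0, rfl⟩ := isConj_iff.1 c0
  obtain ⟨R, hR, R', hR', ne, hS⟩ := hn h1 _ (mem_cent1.2 e0.symm) (by rw [conj_mul, gg, mul_one, mul_inv_cancel])
  obtain ⟨v, hv, rfl, rfl⟩ := h.tr2 ht hQ hg g1 hX hR hR' ne
  have fx : ∀ {T : Sylow p G}, w0 * g * w0⁻¹ ∈ MulAction.stabilizer G (v • T) → (w0⁻¹ * v) • T ∈ Fx p g := by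
    intro T hT
    rw [MulAction.mem_stabilizer_iff] at hT
    calc g • (w0⁻¹ * v) • T = w0⁻¹ • (w0 * g * w0⁻¹) • v • T := by simp only [← mul_smul]; congr 1; group
      _ = _ := by rw [hT, mul_smul]
  obtain ⟨v', hv', a1, a2⟩ := h.tr2 ht hQ hg g1 hX (fx hS.1) (fx hS.2) fun e => hQ (MulAction.injective _ e)
  have cv := mem_cent1.1 hv
  have cv' := mem_cent1.1 hv'
  obtain ⟨w, hw⟩ : ∃ w, w = v⁻¹ * w0 * v' := ⟨_, rfl⟩
  have wS : w ∈ St P Q := by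
    constructor
    · change w • P = P
      rw [hw, mul_smul _ v', a1, ← mul_smul]; simp [mul_assoc]
    · change w • Q = Q
      rw [hw, mul_smul _ v', a2, ← mul_smul]; simp [mul_assoc]
  obtain ⟨t, e⟩ : ∃ t, t = w * g * w⁻¹ := ⟨_, rfl⟩
  have e' : t = v⁻¹ * (w0 * g * w0⁻¹) * v := by
    rw [e, hw, mul_assoc _ v', cv']; simp [mul_assoc]
  have tS : t ∈ St P Q := e ▸ mul_mem (mul_mem wS hg) (inv_mem wS)
  have tC : t ∈ 𝒞[g] := e' ▸ mul_mem (mul_mem (inv_mem hv) (mem_cent1.2 e0.symm)) hv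
  have tg : t ≠ g := fun a => n0 (by
    rw [e', mul_assoc, inv_mul_eq_iff_eq_mul, cv] at a
    exact mul_right_cancel a)
  have t1 : t ≠ 1 := fun a => g1 (by rw [e] at a; simpa [mul_inv_eq_one] using a)
  have tt : t * t = 1 := by rw [e, conj_mul, gg, mul_one, mul_inv_cancel]
  have ct := mem_cent1.1 tC
  have hY : Nat.card ↥((P : Subgroup G) ⊓ 𝒞[t]) = p := by
    rw [e, ← cj_cent1, ← cj_eq_of_mem_norm (stN wS), ← cj_inf, card_cj, hX]
  have XY : (P : Subgroup G) ⊓ 𝒞[g] ⊓ 𝒞[t] = ⊥ := by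
    have := card_dvd_of_le (inf_le_left : (P : Subgroup G) ⊓ 𝒞[g] ⊓ 𝒞[t] ≤ _)
    rw [hX] at this
    rcases (Nat.dvd_prime Fact.out).1 this with a | a
    · exact card_eq_one.1 a
    · have b := eq_of_le_of_card_ge (inf_le_left : (P : Subgroup G) ⊓ 𝒞[g] ⊓ 𝒞[t] ≤ _) (by rw [a, hX])
      rcases hE t ⟨le_cent1_iff.1 (inf_eq_left.1 b), tS, tC⟩ with c | c
      · exact (t1 c).elim
      · exact (tg c).elim
  have iX := inverts (Y := (P : Subgroup G) ⊓ 𝒞[g]) (fun a ha b hb => h.comm P ha.1 hb.1) (nm tS tC) tt XY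
  have iY := inverts (Y := (P : Subgroup G) ⊓ 𝒞[t]) (fun a ha b hb => h.comm P ha.1 hb.1) (nm hg (mem_cent1_comm.1 tC)) gg
    (by rw [inf_right_comm, XY])
  have dj : Disjoint ((P : Subgroup G) ⊓ 𝒞[g]) ((P : Subgroup G) ⊓ 𝒞[t]) :=
    disjoint_iff.2 (by rw [← inf_inf_distrib_left, ← inf_assoc, XY])
  have sj : Function.Bijective fun a : ↥((P : Subgroup G) ⊓ 𝒞[g]) × ↥((P : Subgroup G) ⊓ 𝒞[t]) =>
      (⟨a.1 * a.2, mul_mem a.1.2.1 a.2.2.1⟩ : P) :=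
    Function.Injective.bijective_of_nat_card_le
      (fun a b ab => mul_injective_of_disjoint dj (congrArg Subtype.val ab))
      (by rw [Nat.card_prod, hX, hY, ← pow_two]; exact (h.cardP P).le)
  have iP : ∀ u ∈ P, g * t * u * (g * t)⁻¹ = u⁻¹ := by
    intro u hu
    obtain ⟨⟨⟨x, hx⟩, ⟨y, hy⟩⟩, a⟩ := sj.2 ⟨u, hu⟩
    obtain rfl : x * y = u := congrArg Subtype.val a
    have b1 : g * t * x * (g * t)⁻¹ = x⁻¹ := by
      rw [show g * t * x * (g * t)⁻¹ = g * (t * x * t⁻¹) * g⁻¹ by group, iX x hx, ← mem_cent1.1 (inv_mem hx.2),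
        mul_inv_cancel_right]
    have b2 : g * t * y * (g * t)⁻¹ = y⁻¹ := by
      rw [← ct, show t * g * y * (t * g)⁻¹ = t * (g * y * g⁻¹) * t⁻¹ by group, iY y hy,
        ← mem_cent1.1 (inv_mem hy.2), mul_inv_cancel_right]
    rw [← conj_mul, b1, b2, h.comm P hx.1 hy.1, mul_inv_rev]
  have cz := h.inv_cent ht hQ (mul_mem hg tS) iP
  have wt : w * t * w⁻¹ = g := by
    have a : w * (g * t) * w⁻¹ = g * t := by rw [mem_cent1.1 (cz wS), mul_inv_cancel_right]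
    rw [← conj_mul, ← e, ← ct] at a
    exact mul_left_cancel a
  refine two_dvd_relIndex wS (mem_norm_of_cj_le ?_) inf_le_left (fun a => tg ?_) ⟨mul_mem wS wS, mem_cent1.2 ?_⟩
  · rw [cj_inf, cj_eq_of_mem wS, cj_cent1, ← e]
    refine fun y hy => ⟨hy.1, mem_cent1.2 ?_⟩
    have a := mem_cent1.1 (cz hy.1)
    rw [mul_assoc, ← mem_cent1.1 hy.2, ← mul_assoc, ← mul_assoc] at a
    exact mul_right_cancel a
  · rw [e, mem_cent1.1 a.2, mul_inv_cancel_right]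
  · rw [e] at wt
    rw [← mul_inv_eq_iff_eq_mul]
    exact Eq.trans (by group) wt

end Core

end Cfsg.Agent.PS2
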