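import Cfsg.Agent.PS2.TiW

/-! Groups of the order of `PSL₂(p²)` (notes/PS2.md, section Ti3). -/

set_option autoImplicit false
set_option linter.unusedSectionVars false

namespace Cfsg.Agent.PS2

open Subgroup Cfsg.Agent.H49

variable {G : Type*} [Group G] [Finite G] {p : ℕ} [Fact p.Prime] {m : ℕ} {S : Subgroup G}

namespace Ti3

theorem exists_four {z t : G} (oz : orderOf z = 2) (ot : orderOf t = 2) (ne : t ≠ z) (c : Commute z t) :
    ∃ A : Subgroup G, 4 ∣ Nat.card A ∧ ∀ a ∈ A, a * a = 1 := by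
  have zz : z ^ 2 = 1 := oz ▸ pow_orderOf_eq_one z
  have tt : t ^ 2 = 1 := ot ▸ pow_orderOf_eq_one t
  have s : ∀ i j : ℕ, z ^ i * t ^ j * (z ^ i * t ^ j) = 1 := fun i j => by
    rw [← sq, (c.pow_pow i j).mul_pow, ← pow_mul, ← pow_mul, mul_comm i, mul_comm j, pow_mul, pow_mul, zz, tt,
      one_pow, one_pow, mul_one]
  let A : Subgroup G :=
    { carrier := {x | ∃ i j : ℕ, x = z ^ i * t ^ j}
      one_mem' := ⟨0, 0, by simp⟩
      mul_mem' := by
        rintro _ _ ⟨i, j, rfl⟩ ⟨k, l, rfl⟩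
        exact ⟨i + k, j + l, by rw [(c.pow_pow k j).symm.mul_mul_mul_comm, pow_add, pow_add]⟩
      inv_mem' := by
        rintro _ ⟨i, j, rfl⟩
        exact ⟨i, j, inv_eq_of_mul_eq_one_right (s i j)⟩ }
  have hz : zpowers z ≤ A := zpowers_le.2 ⟨1, 0, by simp⟩
  have h2 : 2 ∣ (zpowers z).relIndex A := two_dvd_relIndex (x := t) ⟨0, 1, by simp⟩
    (centralizer_le_normalizer _ fun y hy => by
      obtain ⟨n, rfl⟩ := mem_zpowers_iff.1 hy
      exact (c.zpow_left n).eq) hz (fun k => by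
      classical
      rw [mem_zpowers_iff_mem_range_orderOf, oz] at k
      simp only [Finset.mem_image, Finset.mem_range] at k
      obtain ⟨n, hn, e⟩ := k
      obtain rfl | rfl : n = 0 ∨ n = 1 := by omega
      · rw [← e, pow_zero, orderOf_one] at ot; omega
      · exact ne (by rw [← e, pow_one])) (by rw [← sq, tt]; exact one_mem _)
  refine ⟨A, ?_, by rintro _ ⟨i, j, rfl⟩; exact s i j⟩
  have := ((zpowers z).subgroupOf A).card_mul_index
  rw [Nat.card_congr (subgroupOfEquivOfLe hz).toEquiv, Nat.card_zpowers, oz] at this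
  rw [← this]
  exact Nat.mul_dvd_mul_left 2 h2

theorem burn {Ω : Type*} [Finite Ω] [MulAction G Ω] {A : Subgroup G} (h : 4 ∣ Nat.card A)
    (k : ∀ a ∈ A, a ≠ 1 → 4 ∣ (MulAction.fixedBy Ω a).ncard) : 4 ∣ Nat.card Ω := by
  classical
  have := Fintype.ofFinite A
  have := Fintype.ofFinite Ω
  have := Fintype.ofFinite (Quotient (MulAction.orbitRel A Ω))
  have e := MulAction.sum_card_fixedBy_eq_card_orbits_mul_card_group A Ω
  rw [← Finset.add_sum_erase _ _ (Finset.mem_univ (1 : A))] at e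
  have h1 : 4 ∣ ∑ a ∈ Finset.univ.erase (1 : A), Fintype.card (MulAction.fixedBy Ω a) :=
    Finset.dvd_sum fun a ha => by
      rw [← Nat.card_eq_fintype_card]
      exact k a a.2 fun e => (Finset.mem_erase.1 ha).1 (Subtype.ext e)
  have h2 := (Nat.dvd_add_left h1).1 (e ▸ Dvd.dvd.mul_left (Nat.card_eq_fintype_card (α := A) ▸ h) _)
  rw [← Nat.card_eq_fintype_card, MulAction.fixedBy_one_eq_univ] at h2
  rwa [Nat.card_congr (Equiv.Set.univ Ω)] at h2

end Ti3

namespace Core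

variable (h : Core p G S m) (ht : TI p G) {P Q : Sylow p G} (hQ : P ≠ Q) {g : G} (hg : g ∈ St P Q)
  (g1 : g ≠ 1) (hX : Nat.card ↥((P : Subgroup G) ⊓ 𝒞[g]) = p)
include h ht hQ hg g1 hX

theorem ti3 (h3 : p % 4 = 3) : False := by
  have : Fact (Nat.Prime 2) := ⟨Nat.prime_two⟩
  obtain ⟨z, oz⟩ := exists_prime_orderOf_dvd_card' (G := G) 2
    (((by norm_num : 2 ∣ 4).trans h.four).trans S.card_subgroup_dvd_card)
  obtain ⟨t, ⟨c, hc⟩, ne, ct⟩ := h.zstar oz
  obtain ⟨A, hA, sq⟩ := Ti3.exists_four oz (hc.orderOf_eq _ ▸ oz) ne ct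
  obtain ⟨a, ha, a1, hn⟩ : ∃ a ∈ A, a ≠ 1 ∧ ¬ 4 ∣ (Fx p a).ncard := by
    by_contra k
    push Not at k
    have := Ti3.burn hA k
    rw [h.card_syl ht] at this
    have := (sq_mod h.h5).1
    omega
  obtain ⟨P', Q', hQ', hs⟩ := h.inv_fix ht (sq a ha)
  obtain ⟨k, rfl, rfl⟩ := h.two_tr ht hQ' hQ
  have zs : k * a * k⁻¹ ∈ St (k • P') (k • Q') :=
    ⟨show _ • _ = _ by rw [mul_smul, inv_smul_smul, mul_smul, hs.1],
      show _ • _ = _ by rw [mul_smul, inv_smul_smul, mul_smul, hs.2]⟩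
  have zz : k * a * k⁻¹ * (k * a * k⁻¹) = 1 := by rw [conj_mul, sq a ha, mul_one, mul_inv_cancel]
  have hb := (h.fix_cases ht hQ zs (by simpa using a1)).resolve_right fun e => hn (by
    have := h.fix_card ht hQ zs
    rw [e, Fx, ← MulAction.smul_fixedBy, Set.ncard_smul_set] at this
    rw [Fx, this]
    omega)
  generalize k * a * k⁻¹ = ζ at zs zz hb
  have hi := inverts (fun _ hx _ hy => h.comm _ hx hy) (Sylow.smul_eq_iff_mem_normalizer.1 zs.1) zz hb
  have hc := h.inv_cent ht hQ zs hi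
  have h2 := two_dvd_relIndex (E := 𝒞(((k • P' : Sylow p G) : Subgroup G) ⊓ 𝒞[g]) ⊓ (St (k • P') (k • Q') ⊓ 𝒞[g]))
    (H := St (k • P') (k • Q') ⊓ 𝒞[g]) (x := ζ) ⟨zs, mem_cent1_comm.1 (hc hg)⟩ (centralizer_le_normalizer _ fun y hy => mem_cent1.1 (hc hy.2.1))
    inf_le_right (fun e => by
      have : ((k • P' : Sylow p G) : Subgroup G) ⊓ 𝒞[g] ≤ ⊥ := hb ▸ fun x hx => ⟨hx.1, mem_cent1.2 (e.1 x hx)⟩
      rw [le_bot_iff.1 this, card_bot] at hX
      have := h.h5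
      omega) (zz ▸ one_mem _)
  rw [inf_relIndex_right] at h2
  rcases h.num ht hQ hg g1 hX with ⟨e, -⟩ | ⟨-, e⟩
  · omega
  · exact (Nat.not_even_iff_odd.2 e) (even_iff_two_dvd.2 h2)

end Core

end Cfsg.Agent.PS2
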