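import Cfsg.Agent.PS2.TiV
import Cfsg.Agent.S0732

/-! Groups of the order of `PSL₂(p²)` (notes/PS2.md, section TiW). -/

set_option autoImplicit false
set_option linter.unusedSectionVars false

namespace Cfsg.Agent.PS2

open Subgroup Cfsg.Agent.H49

variable {G : Type*} [Group G] [Finite G] {p : ℕ} [Fact p.Prime] {m : ℕ} {S : Subgroup G}

namespace TW

theorem memc {g v : G} : v ∈ 𝒞[g] ↔ g * v = v * g := by
  rw [mem_centralizer_iff]; simp

theorem smul_fx {g v : G} (hv : v ∈ 𝒞[g]) {R : Sylow p G} (hR : R ∈ Fx p g) : v • R ∈ Fx p g := by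
  rw [MulAction.mem_fixedBy] at hR ⊢
  rw [smul_smul, memc.1 hv, ← smul_smul, hR]

/-- the centraliser of `g` acts on the Sylow subgroups fixed by `g` -/
def dl (p : ℕ) [Fact p.Prime] (g : G) : SubMulAction 𝒞[g] (Sylow p G) where
  carrier := Fx p g
  smul_mem' := fun v _ hR => smul_fx v.2 hR

/-- an involution with trivial sign on `n ≡ 2 (4)` points has two fixed points -/
theorem two_fix {α : Type*} [Fintype α] [DecidableEq α] {σ : Equiv.Perm α} (h2 : σ ^ 2 = 1)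
    (hs : Equiv.Perm.sign σ = 1) (hn : Fintype.card α % 4 = 2) : ∃ a b : α, a ≠ b ∧ σ a = a ∧ σ b = b := by
  have h1 := Equiv.Perm.sign_of_pow_two_eq_one h2
  rw [hs] at h1
  have h3 : Even ((Fintype.card α - Fintype.card (Function.fixedPoints σ)) / 2) := by
    by_contra hc
    rw [(Nat.not_even_iff_odd.1 hc).neg_one_pow] at h1
    exact absurd h1 (by decide)
  have h4 : Fintype.card α ≡ Fintype.card (Function.fixedPoints σ) [MOD 2] :=
    Equiv.Perm.card_fixedPoints_modEq (f := (σ : α → α)) (p := 2) (n := 1) (by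
      rw [sq] at h2
      exact (sq (M := Function.End α) (σ : α → α)).trans (funext fun x => Equiv.ext_iff.1 h2 x))
  have h5 : Fintype.card (Function.fixedPoints σ) ≤ Fintype.card α := Fintype.card_subtype_le _
  have h6 : 1 < Fintype.card (Function.fixedPoints σ) := by
    obtain ⟨k, hk⟩ := h3
    unfold Nat.ModEq at h4
    omega
  obtain ⟨a, b, hab⟩ := Fintype.one_lt_card_iff.1 h6
  exact ⟨a, b, fun e => hab (Subtype.ext e), a.2, b.2⟩

theorem sign_triv {K : Type*} [Group K] (h5 : 5 < p)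
    (e : K ≃* Matrix.ProjectiveSpecialLinearGroup (Fin 2) (ZMod p)) (f : K →* ℤˣ) (k : K) : f k = 1 := by
  have hp : p.Prime := Fact.out
  have hc : commutator (Matrix.ProjectiveSpecialLinearGroup (Fin 2) (ZMod p)) = ⊤ := by
    refine SL2Simple.PSL_commutator_eq_top ⟨((2 : ℕ) : ZMod p), fun h => ?_, fun h => ?_⟩
    · have := Nat.le_of_dvd (by norm_num) ((ZMod.natCast_eq_zero_iff 2 p).1 h)
      omega
    · have h3 : ((3 : ℕ) : ZMod p) = 0 := by
        push_cast at h ⊢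
        linear_combination h
      have := Nat.le_of_dvd (by norm_num) ((ZMod.natCast_eq_zero_iff 3 p).1 h3)
      omega
  have h1 := Abelianization.commutator_subset_ker (f.comp e.symm.toMonoidHom)
  rw [hc] at h1
  have h2 := h1 (mem_top (e k))
  simpa using h2

end TW

namespace Core

variable (h : Core p G S m) (ht : TI p G) {P Q : Sylow p G} (hQ : P ≠ Q) {g : G} (hg : g ∈ St P Q)
  (g1 : g ≠ 1) (hX : Nat.card ↥((P : Subgroup G) ⊓ 𝒞[g]) = p)
include h ht hQ hg g1 hX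

theorem tw_ker : (MulAction.toPermHom 𝒞[g] (TW.dl p g)).ker =
    (𝒞((P : Subgroup G) ⊓ 𝒞[g]) ⊓ (St P Q ⊓ 𝒞[g])).subgroupOf 𝒞[g] := by
  have hP0 : P ∈ Fx p g := hg.1
  have hQ0 : Q ∈ Fx p g := hg.2
  ext v
  have key : v ∈ (MulAction.toPermHom 𝒞[g] (TW.dl p g)).ker ↔ ∀ R ∈ Fx p g, (v : G) • R = R := by
    rw [MonoidHom.mem_ker, Equiv.ext_iff]
    constructor
    · intro hv R hR
      exact congrArg Subtype.val (hv ⟨R, hR⟩)
    · intro hv R
      exact Subtype.ext (hv R.1 R.2)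
  rw [key, mem_subgroupOf]
  constructor
  · intro hv
    have vP : (v : G) • P = P := hv P hP0
    have vQ : (v : G) • Q = Q := hv Q hQ0
    refine ⟨mem_centralizer_iff.2 fun u hu => ?_, ⟨vP, vQ⟩, v.2⟩
    have e1 : (v : G) • u • Q = u • Q := hv _ (TW.smul_fx hu.2 hQ0)
    have vn : (v : G) ∈ 𝒩((P : Subgroup G)) := Sylow.smul_eq_iff_mem_normalizer.1 vP
    have m1 : u⁻¹ * ((v : G) * u * (v : G)⁻¹) ∈ P :=
      (P : Subgroup G).mul_mem ((P : Subgroup G).inv_mem hu.1) ((mem_normalizer_iff.1 vn u).1 hu.1)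
    have e2 : (u⁻¹ * ((v : G) * u * (v : G)⁻¹)) • Q = Q := by
      have vQ' : (v : G)⁻¹ • Q = Q := by rw [inv_smul_eq_iff, vQ]
      rw [mul_smul, mul_smul, mul_smul, vQ', e1, inv_smul_smul]
    have e3 := h.free ht hQ m1 e2
    calc u * v = u * (u⁻¹ * ((v : G) * u * (v : G)⁻¹)) * v := by rw [e3, mul_one]
      _ = v * u := by group
  · rintro ⟨hc, ⟨vP, vQ⟩, -⟩ R hR
    by_cases e : P = R
    · rw [← e]; exact vP
    · obtain ⟨u, hu, rfl⟩ := h.fix_tr ht hQ hg hR e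
      have vQ' : (v : G) • Q = Q := vQ
      rw [smul_smul, ← mem_centralizer_iff.1 hc u hu, ← smul_smul, vQ']

theorem tw_card : Nat.card (MulAction.toPermHom 𝒞[g] (TW.dl p g)).range =
    (p + 1) * p * 𝒞((P : Subgroup G) ⊓ 𝒞[g]).relIndex (St P Q ⊓ 𝒞[g]) := by
  have h1 : (St P Q ⊓ 𝒞[g]).relIndex 𝒞[g] = (p + 1) * p := by
    have e1 := card_mul_index ((St P Q ⊓ 𝒞[g]).subgroupOf 𝒞[g])
    rw [Nat.card_congr (subgroupOfEquivOfLe inf_le_right).toEquiv, h.card_V ht hQ hg g1 hX,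
      mul_comm] at e1
    exact Nat.eq_of_mul_eq_mul_right Nat.card_pos e1
  rw [← index_ker, h.tw_ker ht hQ hg g1 hX, ← h1,
    ← inf_relIndex_right 𝒞((P : Subgroup G) ⊓ 𝒞[g]) (St P Q ⊓ 𝒞[g]), mul_comm]
  exact (relIndex_mul_relIndex _ (St P Q ⊓ 𝒞[g]) 𝒞[g] inf_le_right inf_le_right).symm

theorem tw_le : 2 * 𝒞((P : Subgroup G) ⊓ 𝒞[g]).relIndex (St P Q ⊓ 𝒞[g]) ≤ p - 1 := by
  have h5 := h.h5
  have e1 := card_mul_index (𝒞((P : Subgroup G) ⊓ 𝒞[g]).subgroupOf (St P Q ⊓ 𝒞[g]))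
  have e2 : 1 < Nat.card (𝒞((P : Subgroup G) ⊓ 𝒞[g]).subgroupOf (St P Q ⊓ 𝒞[g])) := by
    rw [one_lt_card_iff_ne_bot]
    intro hb
    have gm : (⟨g, hg, TW.memc.2 rfl⟩ : ↥(St P Q ⊓ 𝒞[g])) ∈
        𝒞((P : Subgroup G) ⊓ 𝒞[g]).subgroupOf (St P Q ⊓ 𝒞[g]) := by
      rw [mem_subgroupOf, mem_centralizer_iff]
      intro u hu
      exact (TW.memc.1 hu.2).symm
    rw [hb, mem_bot] at gm
    exact g1 (congrArg Subtype.val gm)
  have e3 := Nat.le_of_dvd (by omega) (h.h1_dvd ht hQ hg g1 hX)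
  rw [← e1] at e3
  exact le_trans (Nat.mul_le_mul_right _ e2) e3

theorem num : (2 * 𝒞((P : Subgroup G) ⊓ 𝒞[g]).relIndex (St P Q ⊓ 𝒞[g]) = p - 1 ∧
      (p % 4 = 1 → ∀ t ∈ 𝒞[g], t * t = 1 → ∃ R ∈ Fx p g, ∃ R' ∈ Fx p g, R ≠ R' ∧ t ∈ St R R')) ∨
    (Mer p ∧ Odd (𝒞((P : Subgroup G) ⊓ 𝒞[g]).relIndex (St P Q ⊓ 𝒞[g]))) := by
  classical
  have h5 := h.h5
  have hP0 : P ∈ Fx p g := hg.1
  let _ : Fintype (TW.dl p g) := Fintype.ofFinite _
  have hα : Fintype.card (TW.dl p g) = p + 1 := by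
    have e := h.fix_card ht hQ hg
    rw [hX, add_comm] at e
    rw [← Nat.card_eq_fintype_card]
    exact e
  have base : ∀ R : TW.dl p g, ∃ v : 𝒞[g], v • (⟨P, hP0⟩ : TW.dl p g) = R := by
    intro R
    by_cases e : (R : Sylow p G) = P
    · exact ⟨1, by rw [one_smul]; exact Subtype.ext e.symm⟩
    · obtain ⟨v, hv, e1, -⟩ := h.tr2 ht hQ hg g1 hX R.2 hP0 e
      exact ⟨⟨v, hv⟩, Subtype.ext e1⟩
  have : MulAction.IsPretransitive (MulAction.toPermHom 𝒞[g] (TW.dl p g)).range (TW.dl p g) := by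
    refine ⟨fun R R' => ?_⟩
    obtain ⟨v, rfl⟩ := base R
    obtain ⟨w, rfl⟩ := base R'
    refine ⟨⟨_, w * v⁻¹, rfl⟩, ?_⟩
    change (w * v⁻¹) • v • (⟨P, hP0⟩ : TW.dl p g) = _
    rw [mul_smul, inv_smul_smul]
  have hle := h.tw_le ht hQ hg g1 hX
  rcases S0732.result Fact.out hα _ (h.tw_card ht hQ hg g1 hX) (by omega) with
    ⟨e, -⟩ | ⟨e, ⟨ψ⟩⟩ | ⟨q, hq, e, hd, -⟩
  · omega
  · refine Or.inl ⟨e, fun h4 t htV tt => ?_⟩
    have s1 := TW.sign_triv h5 ψ (Equiv.Perm.sign.comp (Subgroup.subtype _))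
      ⟨_, (⟨t, htV⟩ : 𝒞[g]), rfl⟩
    obtain ⟨a, b, hab, ha, hb⟩ := TW.two_fix
      (σ := MulAction.toPermHom 𝒞[g] (TW.dl p g) ⟨t, htV⟩) (by
        rw [← map_pow, ← map_one (MulAction.toPermHom 𝒞[g] (TW.dl p g))]
        congr 1
        exact Subtype.ext (by rw [sq]; exact tt)) s1 (by omega)
    exact ⟨a, a.2, b, b.2, fun e => hab (Subtype.ext e), congrArg Subtype.val ha,
      congrArg Subtype.val hb⟩
  · refine Or.inr ⟨⟨q, e⟩, ?_⟩
    rcases hd with hd | hd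
    · rw [hd]; exact odd_one
    · rw [hd]
      refine hq.odd_of_ne_two fun h2 => ?_
      rw [h2] at e
      omega

end Core

end Cfsg.Agent.PS2
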